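import Groth.Agent.Lib.BlowUp17.RegularAlg
import Groth.Agent.Lib.SeqKinds.Basic
import Groth.Agent.Lib.LCI6.Invariance
import Mathlib.RingTheory.TensorProduct.Maps

/-!
# Base change of the charts of a blow-up in a Koszul regular sequence
-/

set_option autoImplicit false
set_option linter.all false
universe u

open MvPolynomial TensorProduct

namespace GrothLib.BlowUpBC12

open GrothLib.BlowUp17 GrothLib.BlowUp

variable {B : Type u} [CommRing B] {n : ℕ} (a : Fin n → B) (i : Fin n)

/-- `1` at `i`, the variables elsewhere. -/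
noncomputable def xv (k : Fin n) : MvPolynomial (Var i) B := if h : k = i then 1 else X ⟨k, h⟩

/-- The equations of the chart together with the equation of the exceptional divisor. -/
noncomputable def eqs (k : Fin n) : MvPolynomial (Var i) B :=
  if k = i then C (a i) else C (a k) - C (a i) * xv i k

/-- The ideal of the equations of the chart. -/
noncomputable abbrev rels : Ideal (MvPolynomial (Var i) B) := Ideal.span {q | ∃ k, k ≠ i ∧ q = eqs a i k}

theorem isKoszulRegularSeq_eqs (ha : LCI.IsKoszulRegularSeq B (List.ofFn a)) :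
    LCI.IsKoszulRegularSeq (MvPolynomial (Var i) B) (List.ofFn (eqs a i)) := by
  classical
  let P := MvPolynomial (Var i) B
  have h1 : LCI.IsKoszulRegularSeq P (List.ofFn fun k => (C (a k) : P)) := by
    have := GrothLib.KoszulColon.isKoszulRegularSeq_map (C : B →+* P)
      (RingHom.flat_algebraMap_iff.mpr (inferInstance : Module.Flat B P)) _ ha
    rwa [List.map_ofFn] at this
  let N : Matrix (Fin n) (Fin n) P := Matrix.of fun k l => if l = i ∧ k ≠ i then -xv i k else 0
  have hN : N * N = 0 := by
    ext1 k l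
    rw [Matrix.mul_apply]
    refine Finset.sum_eq_zero fun m _ => ?_
    simp only [N, Matrix.of_apply]
    by_cases hm : m = i
    · rw [if_neg (show ¬(l = i ∧ m ≠ i) from fun h => h.2 hm), mul_zero]
    · rw [if_neg (show ¬(m = i ∧ k ≠ i) from fun h => hm h.1), zero_mul]
  have hdet : IsUnit (1 + N).det := Matrix.isUnit_det_of_right_inverse
    (B := 1 - N) (by rw [mul_sub, mul_one, add_mul, one_mul, hN]; abel)
  have h2 := GrothLib.LCI6.isKoszulRegularSeq_mulVec (1 + N) hdet _ h1
  have h3 : (1 + N).mulVec (fun k => (C (a k) : P)) = eqs a i := by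
    funext k
    rw [Matrix.add_mulVec, Matrix.one_mulVec, Pi.add_apply]
    simp only [Matrix.mulVec, dotProduct, N, Matrix.of_apply, ite_mul, zero_mul, eqs]
    by_cases hk : k = i
    · simp [hk]
    · simp only [hk, ne_eq, not_false_eq_true, and_true, if_false]
      rw [Finset.sum_ite_eq', if_pos (Finset.mem_univ i)]
      ring
  rwa [h3] at h2

theorem mem_rels_of_C_mul_mem (ha : LCI.IsKoszulRegularSeq B (List.ofFn a)) (x : MvPolynomial (Var i) B)
    (hx : C (a i) * x ∈ rels a i) : x ∈ rels a i := by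
  classical
  have hset : {q | ∃ k, k ≠ i ∧ q = eqs a i k} = Set.range fun k : Var i => eqs a i k.1 := by
    ext q; exact ⟨fun ⟨k, hk, h⟩ => ⟨⟨k, hk⟩, h.symm⟩, fun ⟨⟨k, hk⟩, h⟩ => ⟨k, hk, h.symm⟩⟩
  rw [rels, hset, Ideal.mem_span_range_iff_exists_fun] at hx
  obtain ⟨c, hc⟩ := hx
  have hH : CAlgX.IsH1Regular (eqs a i) := by
    have key : ∀ (m : ℕ) (f : Fin m → MvPolynomial (Var i) B) (l : List (MvPolynomial (Var i) B)),
        List.ofFn f = l → CAlgX.IsH1Regular l.get → CAlgX.IsH1Regular f := by
      rintro m f l rfl h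
      obtain ⟨e, he⟩ : ∃ e : (List.ofFn f).length = m, ∀ j, f (Fin.cast e j) = (List.ofFn f).get j :=
        ⟨List.length_ofFn, fun j => (List.get_ofFn f j).symm⟩
      revert h
      generalize (List.ofFn f).get = g at he ⊢
      revert g
      generalize (List.ofFn f).length = m' at e ⊢
      subst e
      intro g he h
      rwa [show f = g from funext fun j => he j]
    exact key n _ _ rfl (GrothLib.SeqKinds.isH1Regular_of_isKoszulRegularSeq _ (isKoszulRegularSeq_eqs a i ha))
  let r : Fin n → MvPolynomial (Var i) B := fun k => if h : k = i then x else -c ⟨k, h⟩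
  have hsum : ∑ k, r k * eqs a i k = 0 := by
    rw [← Finset.sum_erase_add _ _ (Finset.mem_univ i)]
    have h1 : ∑ k ∈ Finset.univ.erase i, r k * eqs a i k = -∑ k : Var i, c k * eqs a i k.1 := by
      rw [← Finset.sum_neg_distrib,
        Finset.sum_subtype (Finset.univ.erase i) (p := fun k => k ≠ i) (by simp) (fun k => r k * eqs a i k)]
      exact Finset.sum_congr rfl fun k _ => by simp [r, k.2]
    rw [h1, hc, show r i = x from dif_pos rfl, show eqs a i i = C (a i) from if_pos rfl]
    ring
  have key : ∀ v ∈ Submodule.span (MvPolynomial (Var i) B) {v : Fin n → MvPolynomial (Var i) B |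
      ∃ p q : Fin n, v = Pi.single p (eqs a i q) - Pi.single q (eqs a i p)}, v i ∈ rels a i := by
    intro v hv
    induction hv using Submodule.span_induction with
    | mem v hv =>
      obtain ⟨p, q, rfl⟩ := hv
      simp only [Pi.sub_apply, Pi.single_apply]
      by_cases hp : i = p <;> by_cases hq : i = q
      · subst hp; subst hq; simp
      · rw [if_pos hp, if_neg hq, sub_zero]
        exact Ideal.subset_span ⟨q, Ne.symm hq, rfl⟩
      · rw [if_neg hp, if_pos hq, zero_sub]
        exact neg_mem (Ideal.subset_span ⟨p, Ne.symm hp, rfl⟩)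
      · rw [if_neg hp, if_neg hq, sub_zero]
        exact zero_mem _
    | zero => exact zero_mem _
    | add _ _ _ _ h₁ h₂ => exact add_mem h₁ h₂
    | smul t v _ h => exact Ideal.mul_mem_left _ t h
  have := key r (hH r hsum)
  rwa [show r i = x from dif_pos rfl] at this

/-- The exceptional equation is regular on the base change of a chart. -/
theorem mem_nonZeroDivisors_baseChange {A A' : Type u} [CommRing A] [CommRing A'] [Algebra A A'] {n : ℕ}
    (a : Fin n → A) (i : Fin n)
    (ha : LCI.IsKoszulRegularSeq A' (List.ofFn fun k => algebraMap A A' (a k))) :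
    algebraMap A (Chart a i ⊗[A] A') (a i) ∈ nonZeroDivisors (Chart a i ⊗[A] A') := by
  classical
  let a' : Fin n → A' := fun k => algebraMap A A' (a k)
  let R := MvPolynomial (Var i) A' ⧸ rels a' i
  let mk : MvPolynomial (Var i) A' →ₐ[A] R := Ideal.Quotient.mkₐ A _
  have hC : ∀ r : A, algebraMap A R r = mk (C (algebraMap A A' r)) := fun r => by
    rw [← mk.commutes r]; rfl
  have hrel : ∀ k, mk (C (a' k)) = mk (C (a' i)) * mk (xv i k) := by
    intro k
    by_cases hk : k = i
    · subst hk; simp [xv]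
    · rw [← map_mul]
      refine (Ideal.Quotient.eq).2 ?_
      exact Ideal.subset_span ⟨k, hk, by rw [eqs, if_neg hk]⟩
  have hnzd : algebraMap A R (a i) ∈ nonZeroDivisors R := by
    rw [hC, mem_nonZeroDivisors_iff_right]
    intro z hz
    obtain ⟨z, rfl⟩ := Ideal.Quotient.mk_surjective z
    refine Ideal.Quotient.eq_zero_iff_mem.2 (mem_rels_of_C_mul_mem a' i ha z ?_)
    rw [mul_comm]
    exact Ideal.Quotient.eq_zero_iff_mem.1 hz
  have hle : (ctr a).map (algebraMap A R) ≤ Ideal.span {algebraMap A R (a i)} := by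
    rw [Ideal.map_span, Ideal.span_le]
    rintro _ ⟨_, ⟨k, rfl⟩, rfl⟩
    rw [SetLike.mem_coe, hC, hC, hrel k]
    exact Ideal.mul_mem_right _ _ (Ideal.mem_span_singleton_self _)
  obtain ⟨ψ₀, hψ₀⟩ := exists_lift_affineAlgebra (a i) (algebraMap A R) hnzd hle
  let ψ₁ : Chart a i →ₐ[A] R := { ψ₀ with commutes' := fun r => RingHom.congr_fun hψ₀ r }
  let ψ₂ : A' →ₐ[A] R := mk.comp (IsScalarTower.toAlgHom A A' (MvPolynomial (Var i) A'))
  let ψ : Chart a i ⊗[A] A' →ₐ[A] R := Algebra.TensorProduct.lift ψ₁ ψ₂ fun _ _ => Commute.all _ _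
  have hψfr : ∀ k, ψ₁ (fr a i k) = mk (xv i k) := by
    intro k
    refine (mul_cancel_left_mem_nonZeroDivisors hnzd).1 ?_
    have h1 := congrArg ψ₁ (mul_fr a i k)
    rw [map_mul, ψ₁.commutes, ψ₁.commutes] at h1
    rw [h1, hC, hC, hrel k]
  let Φ : MvPolynomial (Var i) A' →+* Chart a i ⊗[A] A' :=
    eval₂Hom (Algebra.TensorProduct.includeRight : A' →ₐ[A] Chart a i ⊗[A] A').toRingHom
      fun k => fr a i k.1 ⊗ₜ (1 : A')
  have hΦC : ∀ r : A, Φ (C (algebraMap A A' r)) = algebraMap A _ r := fun r => by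
    simp only [Φ, eval₂Hom_C]
    exact AlgHom.commutes _ r
  have hΦxv : ∀ k, Φ (xv i k) = fr a i k ⊗ₜ (1 : A') := by
    intro k
    by_cases hk : k = i
    · subst hk; simp [xv, fr_self, Algebra.TensorProduct.one_def]
    · simp [xv, Φ, hk]
  have hker : ∀ p ∈ rels a' i, Φ p = 0 := by
    intro p hp
    induction hp using Submodule.span_induction with
    | mem p hp =>
      obtain ⟨k, hk, rfl⟩ := hp
      rw [eqs, if_neg hk, map_sub, map_mul, hΦC, hΦC, hΦxv, sub_eq_zero]
      have : ∀ c : A, algebraMap A (Chart a i ⊗[A] A') c = algebraMap A (Chart a i) c ⊗ₜ (1 : A') :=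
        fun _ => rfl
      rw [this, this, Algebra.TensorProduct.tmul_mul_tmul, one_mul, mul_fr]
    | zero => exact map_zero _
    | add _ _ _ _ h₁ h₂ => rw [map_add, h₁, h₂, add_zero]
    | smul t p _ h => rw [smul_eq_mul, map_mul, h, mul_zero]
  let φ : R →+* Chart a i ⊗[A] A' := Ideal.Quotient.lift _ Φ hker
  have hsurj : Function.Surjective φ := by
    have hleft : ∀ c : Chart a i, c ⊗ₜ (1 : A') ∈ Set.range φ := by
      intro c
      obtain ⟨P, rfl⟩ := pres_surjective a i c
      refine ⟨Ideal.Quotient.mk _ (MvPolynomial.map (algebraMap A A') P), ?_⟩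
      show Φ (MvPolynomial.map (algebraMap A A') P) = _
      induction P using MvPolynomial.induction_on with
      | C r => rw [map_C, hΦC, pres, aeval_C]; rfl
      | add p q hp hq => rw [map_add, map_add, map_add, hp, hq, add_tmul]
      | mul_X p k hp =>
        rw [map_mul, map_mul, map_mul, hp, map_X, pres, aeval_X]
        simp [Φ, Algebra.TensorProduct.tmul_mul_tmul]
    intro t
    induction t using TensorProduct.induction_on with
    | zero => exact ⟨0, map_zero _⟩
    | tmul c d =>
      obtain ⟨u, hu⟩ := hleft c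
      refine ⟨u * Ideal.Quotient.mk _ (C d), ?_⟩
      rw [map_mul, hu, show φ (Ideal.Quotient.mk _ (C d)) = (1 : Chart a i) ⊗ₜ[A] d by
          show Φ (C d) = _; simp [Φ],
        Algebra.TensorProduct.tmul_mul_tmul, mul_one, one_mul]
    | add x y hx hy =>
      obtain ⟨u, hu⟩ := hx
      obtain ⟨v, hv⟩ := hy
      exact ⟨u + v, by rw [map_add, hu, hv]⟩
  have hψφ : ∀ z, ψ (φ z) = z := by
    have : (ψ.toRingHom.comp φ).comp (Ideal.Quotient.mk (rels a' i)) = Ideal.Quotient.mk (rels a' i) := by
      refine MvPolynomial.ringHom_ext (fun d => ?_) (fun k => ?_)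
      · show ψ (Φ (C d)) = _
        simp only [Φ, eval₂Hom_C]
        show ψ ((1 : Chart a i) ⊗ₜ d) = _
        simp only [ψ, Algebra.TensorProduct.lift_tmul, map_one, one_mul]
        rfl
      · show ψ (Φ (X k)) = _
        simp only [Φ, eval₂Hom_X', ψ, Algebra.TensorProduct.lift_tmul, map_one, mul_one, hψfr]
        simp [xv, k.2, mk]
        rfl
    intro z
    obtain ⟨z, rfl⟩ := Ideal.Quotient.mk_surjective z
    exact RingHom.congr_fun this z
  rw [mem_nonZeroDivisors_iff_right]
  intro z hz
  obtain ⟨w, rfl⟩ := hsurj z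
  have h := congrArg ψ hz
  rw [map_mul, hψφ, ψ.commutes, map_zero] at h
  rw [mem_nonZeroDivisors_iff_right.1 hnzd w h, map_zero]

end GrothLib.BlowUpBC12
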