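import Groth.Agent.Lib.BlowUpBC12.Algebra
import Groth.Agent.Lib.Nagata6.Charts
import Groth.Prelude.Def_RegImm
import Mathlib.AlgebraicGeometry.PullbackCarrier

/-!
# The exceptional ideal of the base change of a blow-up in a Koszul regular ideal
-/

set_option autoImplicit false
set_option linter.all false
set_option backward.isDefEq.respectTransparency false
universe u

open CategoryTheory CategoryTheory.Limits AlgebraicGeometry

namespace GrothLib.BlowUpBC12

open GrothLib.BlowUp17 GrothLib.BlowUp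

variable {X X' B : Scheme.{u}}

/-- The charts of a blow-up over an affine open, indexed by generators. -/
theorem exists_chart_mem {I : X.IdealSheafData} {b : B ⟶ X} (hb : _root_.BlowUp.IsBlowUp b I)
    (U : X.affineOpens) {n : ℕ} (a : Fin n → Γ(X, U.1)) (hI : I.ideal U = ctr a) (x : B) (hx : b x ∈ U.1) :
    ∃ (i : Fin n) (J : Spec (CommRingCat.of (Chart a i)) ⟶ B), IsOpenImmersion J ∧
      J ≫ b = Spec.map (CommRingCat.ofHom (algebraMap Γ(X, U.1) (Chart a i))) ≫ U.2.fromSpec ∧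
      x ∈ Set.range J := by
  classical
  have h1 := isBlowUp_flat_baseChange U.2.fromSpec hb
  rw [GrothLib.Nagata6.comap_fromSpec, hI] at h1
  obtain ⟨e, he⟩ := exists_iso_of_isBlowUp h1 (isBlowUp_proj (ctr a))
  let C := reesCharts (ctr a)
  obtain ⟨y, hy⟩ : x ∈ Set.range (pullback.snd U.2.fromSpec b) := by
    rw [IsOpenImmersion.range_pullbackSnd, U.2.opensRange_fromSpec]; exact hx
  obtain ⟨f, q, hq⟩ := C.covers (e.hom y)
  obtain ⟨c, hc⟩ := (Ideal.mem_span_range_iff_exists_fun).1 f.2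
  obtain ⟨i, hi⟩ : ∃ i, frac (f : Γ(X, U.1)) (⟨a i, Ideal.subset_span ⟨i, rfl⟩⟩ : ctr a) ∉ q.asIdeal := by
    by_contra hne
    push Not at hne
    refine q.isPrime.ne_top ((Ideal.eq_top_iff_one _).2 ?_)
    have hsum : (1 : ↥(_root_.BlowUp.affineAlgebra Γ(X, U.1) (ctr a) (f : Γ(X, U.1)))) =
        ∑ k, algebraMap Γ(X, U.1) _ (c k) *
          frac (f : Γ(X, U.1)) (⟨a k, Ideal.subset_span ⟨k, rfl⟩⟩ : ctr a) := by
      refine (mul_cancel_left_mem_nonZeroDivisors
        (algebraMap_mem_nonZeroDivisors (I := ctr a) (f : Γ(X, U.1)))).1 ?_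
      rw [mul_one, Finset.mul_sum]
      refine (congrArg (algebraMap Γ(X, U.1) _) hc).symm.trans ?_
      rw [map_sum]
      refine Finset.sum_congr rfl fun k _ => ?_
      rw [mul_left_comm, algebraMap_mul_frac, map_mul]
    rw [hsum]
    exact Ideal.sum_mem _ fun k _ => Ideal.mul_mem_left _ _ (hne k)
  obtain ⟨q', hq'⟩ := C.overlap ⟨a i, Ideal.subset_span ⟨i, rfl⟩⟩ f q hi
  refine ⟨i, C.j ⟨a i, Ideal.subset_span ⟨i, rfl⟩⟩ ≫ e.inv ≫ pullback.snd U.2.fromSpec b, inferInstance,
    ?_, q', ?_⟩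
  · simp only [Category.assoc, ← pullback.condition]
    rw [← he]
    simp only [Category.assoc, Iso.inv_hom_id_assoc]
    exact (Category.assoc _ _ _).symm.trans (congrArg (· ≫ U.2.fromSpec) (C.comp _))
  · rw [Scheme.Hom.comp_apply, Scheme.Hom.comp_apply, hq', hq,
      ← Scheme.Hom.comp_apply e.hom e.inv, Iso.hom_inv_id]
    exact hy

set_option maxHeartbeats 2000000 in
/-- The exceptional ideal of the base change is effective Cartier. -/
theorem isEffCartierIdeal_baseChange {I : X.IdealSheafData} (hI : RegImm.IsRegularIdeal .koszul I)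
    (g : X' ⟶ X)
    (hg : ∀ (U : X.affineOpens) (rs : List Γ(X, U.1)), LCI.IsKoszulRegularSeq Γ(X, U.1) rs →
      I.ideal U = Ideal.ofList rs → ∀ (V : X'.affineOpens) (e : V.1 ≤ g ⁻¹ᵁ U.1),
        LCI.IsKoszulRegularSeq Γ(X', V.1) (rs.map fun r => (g.appLE U.1 V.1 e).hom r))
    {b : B ⟶ X} (hb : _root_.BlowUp.IsBlowUp b I) :
    _root_.BlowUp.IsEffCartierIdeal ((I.comap g).comap (pullback.snd b g)) := by
  rw [← Scheme.IdealSheafData.comap_comp, ← pullback.condition]
  refine isEffCartierIdeal_of_forall_exists_open fun w => ?_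
  by_cases hw : b (pullback.fst b g w) ∈ I.support
  swap
  · let W : (pullback b g).Opens := (pullback.fst b g ≫ b) ⁻¹ᵁ I.support.compl
    refine ⟨W, hw, ?_⟩
    have htop : (I.comap (pullback.fst b g ≫ b)).comap W.ι = ⊤ := by
      rw [← Scheme.IdealSheafData.support_eq_bot_iff, ← le_bot_iff]
      intro p hp
      rw [Scheme.IdealSheafData.support_comap, Scheme.IdealSheafData.support_comap] at hp
      exact p.2 hp
    rw [htop]
    intro p
    obtain ⟨V, hV, hpV, -⟩ := TopologicalSpace.Opens.isBasis_iff_nbhd.1 W.toScheme.isBasis_affineOpens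
      (show p ∈ (⊤ : W.toScheme.Opens) from trivial)
    exact ⟨⟨V, hV⟩, hpV, 1, one_mem _, by simp⟩
  obtain ⟨U, hxU, rs, hrs, hIU⟩ := hI _ hw
  have hIU' : I.ideal U = ctr rs.get := by
    rw [hIU]; show Ideal.span _ = Ideal.span _; rw [Set.range_list_get]
  obtain ⟨i, J, hJo, hJb, q, hq⟩ := exists_chart_mem hb U rs.get hIU' (pullback.fst b g w) hxU
  have hgw : pullback.snd b g w ∈ g ⁻¹ᵁ U.1 := by
    show g (pullback.snd b g w) ∈ U.1
    rw [← Scheme.Hom.comp_apply, ← pullback.condition, Scheme.Hom.comp_apply]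
    exact hxU
  obtain ⟨V, hV, hwV, hVU⟩ :=
    TopologicalSpace.Opens.isBasis_iff_nbhd.1 X'.isBasis_affineOpens hgw
  let φ := g.appLE U.1 V hVU
  letI : Algebra Γ(X, U.1) Γ(X', V) := φ.hom.toAlgebra
  let T := TensorProduct Γ(X, U.1) (Chart rs.get i) Γ(X', V)
  have hreg : LCI.IsKoszulRegularSeq Γ(X', V)
      (List.ofFn fun k => algebraMap Γ(X, U.1) Γ(X', V) (rs.get k)) := by
    have := hg U rs hrs hIU ⟨V, hV⟩ hVU
    rw [← List.ofFn_get rs, List.map_ofFn] at this
    exact this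
  have ht : algebraMap Γ(X, U.1) T (rs.get i) ∈ nonZeroDivisors T :=
    mem_nonZeroDivisors_baseChange rs.get i hreg
  have hspan : (ctr rs.get).map (algebraMap Γ(X, U.1) T) = Ideal.span {algebraMap Γ(X, U.1) T (rs.get i)} := by
    rw [IsScalarTower.algebraMap_eq Γ(X, U.1) (Chart rs.get i) T, ← Ideal.map_map,
      map_eq_span (rs.get i) (Ideal.subset_span (s := Set.range rs.get) ⟨i, rfl⟩), Ideal.map_span, Set.image_singleton]
    rfl
  let k : Spec (CommRingCat.of T) ⟶ pullback b g :=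
    (pullbackSpecIso Γ(X, U.1) (Chart rs.get i) Γ(X', V)).inv ≫
      pullback.map _ _ b g J hV.fromSpec U.2.fromSpec hJb.symm
        (IsAffineOpen.SpecMap_appLE_fromSpec g U.2 hV hVU)
  have hk : k ≫ pullback.fst b g ≫ b =
      Spec.map (CommRingCat.ofHom (algebraMap Γ(X, U.1) T)) ≫ U.2.fromSpec := by
    simp only [k, Category.assoc, pullback.lift_fst_assoc, hJb]
    rw [← Category.assoc, ← Category.assoc, Category.assoc _ (pullback.fst _ _), ← Category.assoc,
      pullbackSpecIso_inv_fst, ← Spec.map_comp, ← CommRingCat.ofHom_comp]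
    rfl
  have hwk : w ∈ Set.range k := by
    have : w ∈ Set.range (pullback.map _ _ b g J hV.fromSpec U.2.fromSpec hJb.symm
        (IsAffineOpen.SpecMap_appLE_fromSpec g U.2 hV hVU)) := by
      rw [Scheme.Pullback.range_map]
      exact ⟨⟨q, hq⟩, hV.range_fromSpec.ge hwV⟩
    obtain ⟨p, hp⟩ := this
    refine ⟨(pullbackSpecIso Γ(X, U.1) (Chart rs.get i) Γ(X', V)).hom p, ?_⟩
    rw [← Scheme.Hom.comp_apply]
    simp only [k, Iso.hom_inv_id_assoc]
    exact hp
  refine ⟨k.opensRange, hwk, ?_⟩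
  have e : k.opensRange.ι = k.isoOpensRange.inv ≫ k := (Scheme.Hom.isoOpensRange_inv_comp k).symm
  rw [← Scheme.IdealSheafData.comap_comp, e, Category.assoc, hk, Scheme.IdealSheafData.comap_comp,
    Scheme.IdealSheafData.comap_comp, GrothLib.Nagata6.comap_fromSpec, comap_idealSheaf, hIU', hspan]
  exact isEffCartierIdeal_comap_of_flat _ (isEffCartierIdeal_span_singleton ht)

/-- Base change of a blow-up along a Tor independent morphism. -/
theorem isBlowUp_baseChange {I : X.IdealSheafData} (hI : RegImm.IsRegularIdeal .koszul I) (g : X' ⟶ X)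
    (hg : ∀ (U : X.affineOpens) (rs : List Γ(X, U.1)), LCI.IsKoszulRegularSeq Γ(X, U.1) rs →
      I.ideal U = Ideal.ofList rs → ∀ (V : X'.affineOpens) (e : V.1 ≤ g ⁻¹ᵁ U.1),
        LCI.IsKoszulRegularSeq Γ(X', V.1) (rs.map fun r => (g.appLE U.1 V.1 e).hom r))
    {b : B ⟶ X} (hb : _root_.BlowUp.IsBlowUp b I) :
    _root_.BlowUp.IsBlowUp (pullback.snd b g) (I.comap g) := by
  refine ⟨isEffCartierIdeal_baseChange hI g hg hb, fun Y h hh => ?_⟩
  rw [← Scheme.IdealSheafData.comap_comp] at hh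
  obtain ⟨t, ht, huniq⟩ := hb.2 Y (h ≫ g) hh
  refine ⟨pullback.lift t h ht, pullback.lift_snd _ _ _, fun m hm => ?_⟩
  apply pullback.hom_ext
  · rw [pullback.lift_fst]
    exact huniq _ (by dsimp only at hm ⊢; rw [Category.assoc, pullback.condition, reassoc_of% hm])
  · rw [pullback.lift_snd]; exact hm

end GrothLib.BlowUpBC12
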